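import Cfsg.Agent.Lib.DCE.Ly.Model.Let

namespace Cfsg.Agent.Lib.DCE.Ly.Model.R0

open Cfsg.Agent.Lib.TC.Core Cfsg.Agent.Lib.TC.Enc Cfsg.Agent.Lib.TC.Pres Cfsg.Agent.Lib.DCE.MatP
  Cfsg.Agent.Lib.DCE.Ly.Exp

set_option maxRecDepth 100000

open Cfsg.Agent.Lib.DCE.Ly.Model.Let

theorem w0 : checkW 5 111 lets (relsExp.getD 0 []).reverse = true := by decide +kernel

theorem w1 : checkW 5 111 lets (relsExp.getD 1 []).reverse = true := by decide +kernel

theorem w2 : checkW 5 111 lets (relsExp.getD 2 []).reverse = true := by decide +kernel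

theorem w3 : checkW 5 111 lets (relsExp.getD 3 []).reverse = true := by decide +kernel

theorem w4 : checkW 5 111 lets (relsExp.getD 4 []).reverse = true := by decide +kernel

theorem w5 : checkW 5 111 lets (relsExp.getD 5 []).reverse = true := by decide +kernel

theorem w6 : checkW 5 111 lets (relsExp.getD 6 []).reverse = true := by decide +kernel

theorem w7 : checkW 5 111 lets (relsExp.getD 7 []).reverse = true := by decide +kernel

theorem w8 : checkW 5 111 lets (relsExp.getD 8 []).reverse = true := by decide +kernel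

theorem w9 : checkW 5 111 lets (relsExp.getD 9 []).reverse = true := by decide +kernel

theorem chk (i : Nat) (h1 : 0 ≤ i) (h2 : i < 10) : checkW 5 111 lets (relsExp.getD i []).reverse = true := by
  interval_cases i
  · exact w0
  · exact w1
  · exact w2
  · exact w3
  · exact w4
  · exact w5
  · exact w6
  · exact w7
  · exact w8
  · exact w9

end Cfsg.Agent.Lib.DCE.Ly.Model.R0
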