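import Cfsg.Agent.Lib.DCE.Ly.Model.Let

namespace Cfsg.Agent.Lib.DCE.Ly.Model.R1

open Cfsg.Agent.Lib.TC.Core Cfsg.Agent.Lib.TC.Enc Cfsg.Agent.Lib.TC.Pres Cfsg.Agent.Lib.DCE.MatP
  Cfsg.Agent.Lib.DCE.Ly.Exp

set_option maxRecDepth 100000

open Cfsg.Agent.Lib.DCE.Ly.Model.Let

theorem w10 : checkW 5 111 lets (relsExp.getD 10 []).reverse = true := by decide +kernel

theorem w11 : checkW 5 111 lets (relsExp.getD 11 []).reverse = true := by decide +kernel

theorem w12 : checkW 5 111 lets (relsExp.getD 12 []).reverse = true := by decide +kernel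

theorem w13 : checkW 5 111 lets (relsExp.getD 13 []).reverse = true := by decide +kernel

theorem w14 : checkW 5 111 lets (relsExp.getD 14 []).reverse = true := by decide +kernel

theorem w15 : checkW 5 111 lets (relsExp.getD 15 []).reverse = true := by decide +kernel

theorem w16 : checkW 5 111 lets (relsExp.getD 16 []).reverse = true := by decide +kernel

theorem w17 : checkW 5 111 lets (relsExp.getD 17 []).reverse = true := by decide +kernel

theorem chk (i : Nat) (h1 : 10 ≤ i) (h2 : i < 18) : checkW 5 111 lets (relsExp.getD i []).reverse = true := by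
  interval_cases i
  · exact w10
  · exact w11
  · exact w12
  · exact w13
  · exact w14
  · exact w15
  · exact w16
  · exact w17

end Cfsg.Agent.Lib.DCE.Ly.Model.R1
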