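import Cfsg.Agent.Lib.DCE.Ly.Model.Let

namespace Cfsg.Agent.Lib.DCE.Ly.Model.R2

open Cfsg.Agent.Lib.TC.Core Cfsg.Agent.Lib.TC.Enc Cfsg.Agent.Lib.TC.Pres Cfsg.Agent.Lib.DCE.MatP
  Cfsg.Agent.Lib.DCE.Ly.Exp

set_option maxRecDepth 100000

open Cfsg.Agent.Lib.DCE.Ly.Model.Let

theorem w18 : checkW 5 111 lets (relsExp.getD 18 []).reverse = true := by decide +kernel

theorem w19 : checkW 5 111 lets (relsExp.getD 19 []).reverse = true := by decide +kernel

theorem w20 : checkW 5 111 lets (relsExp.getD 20 []).reverse = true := by decide +kernel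

theorem w21 : checkW 5 111 lets (relsExp.getD 21 []).reverse = true := by decide +kernel

theorem w22 : checkW 5 111 lets (relsExp.getD 22 []).reverse = true := by decide +kernel

theorem w23 : checkW 5 111 lets (relsExp.getD 23 []).reverse = true := by decide +kernel

theorem w24 : checkW 5 111 lets (relsExp.getD 24 []).reverse = true := by decide +kernel

theorem w25 : checkW 5 111 lets (relsExp.getD 25 []).reverse = true := by decide +kernel

theorem w26 : checkW 5 111 lets (relsExp.getD 26 []).reverse = true := by decide +kernel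

theorem chk (i : Nat) (h1 : 18 ≤ i) (h2 : i < 27) : checkW 5 111 lets (relsExp.getD i []).reverse = true := by
  interval_cases i
  · exact w18
  · exact w19
  · exact w20
  · exact w21
  · exact w22
  · exact w23
  · exact w24
  · exact w25
  · exact w26

end Cfsg.Agent.Lib.DCE.Ly.Model.R2
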