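import Cfsg.Agent.Lib.DCE.Ly.Model.Let

namespace Cfsg.Agent.Lib.DCE.Ly.Model.R3

open Cfsg.Agent.Lib.TC.Core Cfsg.Agent.Lib.TC.Enc Cfsg.Agent.Lib.TC.Pres Cfsg.Agent.Lib.DCE.MatP
  Cfsg.Agent.Lib.DCE.Ly.Exp

set_option maxRecDepth 100000

open Cfsg.Agent.Lib.DCE.Ly.Model.Let

theorem w27 : checkW 5 111 lets (relsExp.getD 27 []).reverse = true := by decide +kernel

theorem w28 : checkW 5 111 lets (relsExp.getD 28 []).reverse = true := by decide +kernel

theorem w29 : checkW 5 111 lets (relsExp.getD 29 []).reverse = true := by decide +kernel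

theorem w30 : checkW 5 111 lets (relsExp.getD 30 []).reverse = true := by decide +kernel

theorem w31 : checkW 5 111 lets (relsExp.getD 31 []).reverse = true := by decide +kernel

theorem w32 : checkW 5 111 lets (relsExp.getD 32 []).reverse = true := by decide +kernel

theorem w33 : checkW 5 111 lets (relsExp.getD 33 []).reverse = true := by decide +kernel

theorem w34 : checkW 5 111 lets (relsExp.getD 34 []).reverse = true := by decide +kernel

theorem chk (i : Nat) (h1 : 27 ≤ i) (h2 : i < 35) : checkW 5 111 lets (relsExp.getD i []).reverse = true := by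
  interval_cases i
  · exact w27
  · exact w28
  · exact w29
  · exact w30
  · exact w31
  · exact w32
  · exact w33
  · exact w34

end Cfsg.Agent.Lib.DCE.Ly.Model.R3
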