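import Cfsg.Agent.Lib.DCE.Ly.Model.Let

namespace Cfsg.Agent.Lib.DCE.Ly.Model.R4

open Cfsg.Agent.Lib.TC.Core Cfsg.Agent.Lib.TC.Enc Cfsg.Agent.Lib.TC.Pres Cfsg.Agent.Lib.DCE.MatP
  Cfsg.Agent.Lib.DCE.Ly.Exp

set_option maxRecDepth 100000

open Cfsg.Agent.Lib.DCE.Ly.Model.Let

theorem w35 : checkW 5 111 lets (relsExp.getD 35 []).reverse = true := by decide +kernel

theorem w36 : checkW 5 111 lets (relsExp.getD 36 []).reverse = true := by decide +kernel

theorem w37 : checkW 5 111 lets (relsExp.getD 37 []).reverse = true := by decide +kernel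

theorem w38 : checkW 5 111 lets (relsExp.getD 38 []).reverse = true := by decide +kernel

theorem w39 : checkW 5 111 lets (relsExp.getD 39 []).reverse = true := by decide +kernel

theorem w40 : checkW 5 111 lets (relsExp.getD 40 []).reverse = true := by decide +kernel

theorem w41 : checkW 5 111 lets (relsExp.getD 41 []).reverse = true := by decide +kernel

theorem w42 : checkW 5 111 lets (relsExp.getD 42 []).reverse = true := by decide +kernel

theorem chk (i : Nat) (h1 : 35 ≤ i) (h2 : i < 43) : checkW 5 111 lets (relsExp.getD i []).reverse = true := by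
  interval_cases i
  · exact w35
  · exact w36
  · exact w37
  · exact w38
  · exact w39
  · exact w40
  · exact w41
  · exact w42

end Cfsg.Agent.Lib.DCE.Ly.Model.R4
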