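import Cfsg.Agent.Lib.DCE.Ly.Model.Let

namespace Cfsg.Agent.Lib.DCE.Ly.Model.R5

open Cfsg.Agent.Lib.TC.Core Cfsg.Agent.Lib.TC.Enc Cfsg.Agent.Lib.TC.Pres Cfsg.Agent.Lib.DCE.MatP
  Cfsg.Agent.Lib.DCE.Ly.Exp

set_option maxRecDepth 100000

open Cfsg.Agent.Lib.DCE.Ly.Model.Let

theorem w43 : checkW 5 111 lets (relsExp.getD 43 []).reverse = true := by decide +kernel

theorem w44 : checkW 5 111 lets (relsExp.getD 44 []).reverse = true := by decide +kernel

theorem w45 : checkW 5 111 lets (relsExp.getD 45 []).reverse = true := by decide +kernel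

theorem w46 : checkW 5 111 lets (relsExp.getD 46 []).reverse = true := by decide +kernel

theorem w47 : checkW 5 111 lets (relsExp.getD 47 []).reverse = true := by decide +kernel

theorem w48 : checkW 5 111 lets (relsExp.getD 48 []).reverse = true := by decide +kernel

theorem w49 : checkW 5 111 lets (relsExp.getD 49 []).reverse = true := by decide +kernel

theorem w50 : checkW 5 111 lets (relsExp.getD 50 []).reverse = true := by decide +kernel

theorem chk (i : Nat) (h1 : 43 ≤ i) (h2 : i < 51) : checkW 5 111 lets (relsExp.getD i []).reverse = true := by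
  interval_cases i
  · exact w43
  · exact w44
  · exact w45
  · exact w46
  · exact w47
  · exact w48
  · exact w49
  · exact w50

end Cfsg.Agent.Lib.DCE.Ly.Model.R5
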