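import Cfsg.Agent.Lib.DCE.Ly.Model.Let

namespace Cfsg.Agent.Lib.DCE.Ly.Model.R6

open Cfsg.Agent.Lib.TC.Core Cfsg.Agent.Lib.TC.Enc Cfsg.Agent.Lib.TC.Pres Cfsg.Agent.Lib.DCE.MatP
  Cfsg.Agent.Lib.DCE.Ly.Exp

set_option maxRecDepth 100000

open Cfsg.Agent.Lib.DCE.Ly.Model.Let

theorem w51 : checkW 5 111 lets (relsExp.getD 51 []).reverse = true := by decide +kernel

theorem w52 : checkW 5 111 lets (relsExp.getD 52 []).reverse = true := by decide +kernel

theorem chk (i : Nat) (h1 : 51 ≤ i) (h2 : i < 53) : checkW 5 111 lets (relsExp.getD i []).reverse = true := by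
  interval_cases i
  · exact w51
  · exact w52

end Cfsg.Agent.Lib.DCE.Ly.Model.R6
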