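import Cfsg.Agent.Lib.DCE.Ly.Model.R0
import Cfsg.Agent.Lib.DCE.Ly.Model.R1
import Cfsg.Agent.Lib.DCE.Ly.Model.R2
import Cfsg.Agent.Lib.DCE.Ly.Model.R3
import Cfsg.Agent.Lib.DCE.Ly.Model.R4
import Cfsg.Agent.Lib.DCE.Ly.Model.R5
import Cfsg.Agent.Lib.DCE.Ly.Model.R6

/-! The representation of the Lyons group of degree `111`. -/

namespace Cfsg.Agent.Lib.DCE.Ly.Model.Rho

open Cfsg.Agent.Lib.TC.Core Cfsg.Agent.Lib.TC.Enc Cfsg.Agent.Lib.TC.Pres Cfsg.Agent.Lib.DCE.MatP
  Cfsg.Agent.Lib.DCE.Ly.Exp

set_option maxRecDepth 100000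

open Cfsg.Agent.Lib.DCE.Ly.Model.Let

/-- The matrices. -/
abbrev MT : Type := Matrix (Fin 111) (Fin 111) (ZMod 5)

/-- A letter as a matrix. -/
def lm (c : Nat) : MT := lettM 5 111 lets c

theorem hgood : goodT 5 111 lets = true := by decide +kernel

theorem hlen : relsExp.length = 53 := by decide +kernel

theorem chkAll : ∀ w ∈ relsExp, checkW 5 111 lets w.reverse = true := by
  intro w hw
  obtain ⟨i, hi', rfl⟩ := List.getElem_of_mem hw
  have hi : i < 53 := by rw [← hlen]; exact hi'
  rw [← List.getD_eq_getElem relsExp [] hi']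
  by_cases h0 : i < 10
  · exact Cfsg.Agent.Lib.DCE.Ly.Model.R0.chk i (by omega) h0
  by_cases h1 : i < 18
  · exact Cfsg.Agent.Lib.DCE.Ly.Model.R1.chk i (by omega) h1
  by_cases h2 : i < 27
  · exact Cfsg.Agent.Lib.DCE.Ly.Model.R2.chk i (by omega) h2
  by_cases h3 : i < 35
  · exact Cfsg.Agent.Lib.DCE.Ly.Model.R3.chk i (by omega) h3
  by_cases h4 : i < 43
  · exact Cfsg.Agent.Lib.DCE.Ly.Model.R4.chk i (by omega) h4
  by_cases h5 : i < 51
  · exact Cfsg.Agent.Lib.DCE.Ly.Model.R5.chk i (by omega) h5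
  by_cases h6 : i < 53
  · exact Cfsg.Agent.Lib.DCE.Ly.Model.R6.chk i (by omega) h6
  omega

theorem inv12_inv : ∀ c, c < 12 → inv12 (inv12 c) = c ∧ inv12 c < 12 := by decide +kernel

theorem chkInv : ∀ c, c < 12 → checkW 5 111 lets [c, inv12 c] = true := by decide +kernel

theorem prod_word (w : List Nat) (h : checkW 5 111 lets w = true) : (w.map lm).prod = 1 :=
  prod_of_checkW 5 111 (by norm_num) (by norm_num) (by norm_num) lets hgood w h

theorem lm_mul_inv (c : Nat) (hc : c < 12) : lm c * lm (inv12 c) = 1 := by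
  have h := prod_word _ (chkInv c hc)
  simpa using h

/-- A letter as an invertible matrix. -/
def F (c : Nat) : MTˣ :=
  if h : c < 12 then
    ⟨lm c, lm (inv12 c), lm_mul_inv c h, by
      have h1 := lm_mul_inv (inv12 c) (inv12_inv c h).2
      rwa [(inv12_inv c h).1] at h1⟩
  else 1

theorem F_val {c : Nat} (h : c < 12) : (F c).val = lm c := by
  rw [F, dif_pos h]

theorem F_inv : ∀ c, c < 12 → F (inv12 c) = (F c)⁻¹ := by
  intro c hc
  apply Units.ext
  rw [F_val (inv12_inv c hc).2, F, dif_pos hc]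
  rfl

theorem val_prodA (l : List Nat) (hl : ∀ z ∈ l, z < 12) : (prodA F l).val = (l.reverse.map lm).prod := by
  induction l with
  | nil => rfl
  | cons z l ih =>
    rw [prodA_cons, Units.val_mul, ih (fun y hy => hl y (by simp [hy])), F_val (hl z (by simp)),
      List.reverse_cons, List.map_append, List.prod_append]
    simp

theorem rels_lt : ∀ w ∈ relsExp, ∀ z ∈ w, z < 12 := by decide +kernel

theorem F_rel : ∀ w ∈ relsExp, prodA F w = 1 := by
  intro w hw
  apply Units.ext
  rw [val_prodA w (rels_lt w hw), prod_word _ (chkAll w hw)]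
  rfl

theorem exists_rho : ∃ ρ : Γ →* MTˣ, ∀ c, c < 12 → ρ (L c) = F c := exists_hom12 F F_inv F_rel

/-- The representation. -/
noncomputable def rho : Γ →* MTˣ := Classical.choose exists_rho

theorem rho_L : ∀ c, c < 12 → rho (L c) = F c := Classical.choose_spec exists_rho

/-- The element of a word, from the left to the right. -/
noncomputable def elt (w : List Nat) : Γ := prodA L w.reverse

theorem rho_prodA (l : List Nat) (hl : ∀ z ∈ l, z < 12) : rho (prodA L l) = prodA F l := by
  induction l with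
  | nil => exact map_one _
  | cons z l ih =>
    rw [prodA_cons, prodA_cons, map_mul, ih (fun y hy => hl y (by simp [hy])), rho_L z (hl z (by simp))]

theorem rho_elt (w : List Nat) (hw : ∀ z ∈ w, z < 12) : (rho (elt w)).val = (w.map lm).prod := by
  have hr : ∀ z ∈ w.reverse, z < 12 := fun z hz => hw z (List.mem_reverse.1 hz)
  rw [elt, rho_prodA _ hr, val_prodA _ hr, List.reverse_reverse]

/-- The check that a matrix is the value of a word. -/
def chkWord (w : List Nat) (G : List Nat) : Bool :=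
  w.all (fun l => Nat.blt l 12) && prodW 5 111 lets (idM 111) w == G

theorem rho_elt_of_chk {w G : List Nat} (h : chkWord w G = true) : (rho (elt w)).val = toM 5 111 G := by
  simp only [chkWord, Bool.and_eq_true, List.all_eq_true, beq_iff_eq] at h
  obtain ⟨h1, h2⟩ := h
  have h3 : ∀ z ∈ w, z < 12 := fun z hz => by
    have := h1 z hz
    rw [Nat.blt_eq] at this
    exact this
  rw [rho_elt w h3, ← h2, toM_prodW 5 111 (by norm_num) (by norm_num) lets hgood w (fun z hz => h3 z hz)
    (idM 111) (goodM_idM 5 111 (by norm_num)), toM_idM, one_mul]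
  rfl

end Cfsg.Agent.Lib.DCE.Ly.Model.Rho
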